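import Groth.Agent.Lib.Helper12.Dev9
import Groth.Agent.Lib.Helper17.CohThick

/-! # Serre classes of coherent modules on a Noetherian scheme (helper2) -/

set_option autoImplicit false
universe u v
open CategoryTheory CategoryTheory.Limits AlgebraicGeometry TopologicalSpace Opposite
open Groth.Agent.Lib.Helper29.QCoh Groth.Agent.Lib.Helper12.H12Dev

namespace Groth.Agent.Lib.Helper2.CohSerre

variable {X : Scheme.{u}}

/-- Serre class on coherent modules, in the form used in the `CohGab` statements. -/
def IsSerre (P : ObjectProperty X.Modules) : Prop :=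
  ∀ S : ShortComplex X.Modules, S.ShortExact → Coh.IsCoh S.X₁ → Coh.IsCoh S.X₂ →
    Coh.IsCoh S.X₃ → (P S.X₂ ↔ P S.X₁ ∧ P S.X₃)

section
variable [IsLocallyNoetherian X] {P : ObjectProperty X.Modules}

theorem IsSerre.of_mono (hP : IsSerre P) {A B : X.Modules} (f : A ⟶ B) [Mono f]
    (hA : Coh.IsCoh A) (hB : Coh.IsCoh B) (h : P B) : P A := by
  have hS : (ShortComplex.mk f (cokernel.π f) (cokernel.condition f)).ShortExact :=
    { exact := ShortComplex.exact_cokernel f
      mono_f := inferInstanceAs (Mono f)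
      epi_g := inferInstanceAs (Epi (cokernel.π f)) }
  exact ((hP _ hS hA hB (isCoh_cokernel f hA hB)).1 h).1

theorem IsSerre.of_epi (hP : IsSerre P) {A B : X.Modules} (f : A ⟶ B) [Epi f]
    (hA : Coh.IsCoh A) (hB : Coh.IsCoh B) (h : P A) : P B := by
  have hS : (ShortComplex.mk (kernel.ι f) f (kernel.condition f)).ShortExact :=
    { exact := ShortComplex.exact_kernel f
      mono_f := inferInstanceAs (Mono (kernel.ι f))
      epi_g := inferInstanceAs (Epi f) }
  exact ((hP _ hS (isCoh_kernel f hA hB) hA hB).1 h).2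

theorem IsSerre.of_iso (hP : IsSerre P) {A B : X.Modules} (e : A ≅ B)
    (hA : Coh.IsCoh A) (h : P A) : P B :=
  hP.of_epi e.hom hA (isCoh_of_iso e hA) h

theorem IsSerre.extClosed (hP : IsSerre P) : ExtClosed (fun M => Coh.IsCoh M ∧ P M) :=
  fun S hS h1 h2 h3 k1 k3 => ⟨h2, (hP S hS h1 h2 h3).2 ⟨k1.2, k3.2⟩⟩

theorem IsSerre.of_isZero (hP : IsSerre P) {F M : X.Modules} (hF : Coh.IsCoh F) (hPF : P F)
    (hM : IsZero M) : P M := by
  haveI : Mono (0 : M ⟶ F) := ⟨fun a b _ => hM.eq_of_tgt a b⟩
  exact hP.of_mono (0 : M ⟶ F) (Groth.Agent.Lib.Helper17.CohThick.isCoh_of_isZero X hM) hF hPF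

end

/-- support in a short exact sequence -/
theorem support_eq_union (S : ShortComplex X.Modules) (hS : S.ShortExact) :
    CohB1.support S.X₂ = CohB1.support S.X₁ ∪ CohB1.support S.X₃ := by
  haveI := hS.mono_f
  haveI := hS.epi_g
  apply Set.Subset.antisymm
  · exact support_subset_union_of_exact S hS.exact
  · exact Set.union_subset (support_subset_of_mono S.f) (support_subset_of_epi S.g)

theorem isSerre_support_subset (Z : Set X) :
    IsSerre (fun M : X.Modules => CohB1.support M ⊆ Z) := by
  intro S hS _ _ _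
  show CohB1.support S.X₂ ⊆ Z ↔ _
  rw [support_eq_union S hS, Set.union_subset_iff]

theorem isSerre_notMem_support (y : X) :
    IsSerre (fun M : X.Modules => y ∉ CohB1.support M) := by
  intro S hS _ _ _
  show y ∉ CohB1.support S.X₂ ↔ _
  rw [support_eq_union S hS, Set.mem_union, not_or]

end Groth.Agent.Lib.Helper2.CohSerre
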