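import Groth.Agent.Lib.Helper2.CohSerre.Main
import Groth.Agent.Lib.Helper12.Dev8

/-! # A coherent module with prescribed closed support; consequences (helper2) -/

set_option autoImplicit false
universe u v
open CategoryTheory CategoryTheory.Limits AlgebraicGeometry TopologicalSpace Opposite
open Groth.Agent.Lib.Helper29.QCoh Groth.Agent.Lib.Helper12.H12Dev

namespace Groth.Agent.Lib.Helper2.CohSerre

variable {X : Scheme.{u}}

theorem exists_coh_support_eq [IsNoetherian X] (Z : Closeds X) :
    ∃ G : X.Modules, Coh.IsCoh G ∧ CohB1.support G = (Z : Set X) := by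
  set I₀ := Scheme.IdealSheafData.vanishingIdeal Z with hI₀
  let i := I₀.subschemeι
  have hr : Set.range i = (Z : Set X) := range_subschemeι_vanishingIdeal Z
  haveI : (unitM I₀.subscheme).IsQuasicoherent := isQuasicoherent_unitM _
  haveI : (unitM I₀.subscheme).IsFiniteType := (isCoh_unitM _).2
  set G := (Scheme.Modules.pushforward i).obj (unitM I₀.subscheme) with hGdef
  haveI hGq : G.IsQuasicoherent := isQuasicoherent_pushforward_of_isAffineHom i _
  haveI hGf : G.IsFiniteType := isFiniteType_pushforward_of_isFinite i _
  refine ⟨G, ⟨hGq, hGf⟩, ?_⟩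
  rw [hGdef, Groth.Agent.Helper19.ClImmSupp.support_pushforward, ← hr]
  have : CohB1.support (unitM I₀.subscheme) = Set.univ := by
    ext x
    simp only [Set.mem_univ, iff_true]
    exact (mem_support_iff _ x).mpr (nontrivial_stalk_unitM _ x)
  rw [this, Set.image_univ]

end Groth.Agent.Lib.Helper2.CohSerre
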