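import Groth.Agent.Lib.Helper2.CohSerre.Closed

/-! # Irreducible closed sets and irreducible Serre classes (helper2) -/

set_option autoImplicit false
universe u v
open CategoryTheory CategoryTheory.Limits AlgebraicGeometry TopologicalSpace Opposite
open Groth.Agent.Lib.Helper29.QCoh Groth.Agent.Lib.Helper12.H12Dev

namespace Groth.Agent.Lib.Helper2.CohSerre

variable {X : Scheme.{u}}

theorem isSerre_not_subset_support (Z : Set X) (hZ : IsPreirreducible Z) :
    IsSerre (fun M : X.Modules => ¬ (Z ⊆ CohB1.support M)) := by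
  intro S hS h1 _ h3
  show ¬ (Z ⊆ CohB1.support S.X₂) ↔ _
  haveI := h1.2
  haveI := h3.2
  rw [support_eq_union S hS]
  constructor
  · intro h
    exact ⟨fun h' => h (h'.trans Set.subset_union_left), fun h' => h (h'.trans Set.subset_union_right)⟩
  · rintro ⟨ha, hb⟩ h
    rcases (isPreirreducible_iff_isClosed_union_isClosed.mp hZ) _ _ (isClosed_support S.X₁)
      (isClosed_support S.X₃) h with h' | h'
    · exact ha h'
    · exact hb h'

theorem irred_forward [IsNoetherian X] (Z : Closeds X) (hZ : IsPreirreducible (Z : Set X))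
    (J₁ J₂ : ObjectProperty X.Modules) (h1 : IsSerre J₁) (h2 : IsSerre J₂)
    (hJ1 : ∀ M : X.Modules, Coh.IsCoh M → J₁ M → CohB1.support M ⊆ (Z : Set X))
    (hJ2 : ∀ M : X.Modules, Coh.IsCoh M → J₂ M → CohB1.support M ⊆ (Z : Set X))
    (hgen : ∀ Q : ObjectProperty X.Modules, IsSerre Q →
      (∀ M : X.Modules, Coh.IsCoh M → J₁ M → Q M) → (∀ M : X.Modules, Coh.IsCoh M → J₂ M → Q M) →
      ∀ M : X.Modules, Coh.IsCoh M → CohB1.support M ⊆ (Z : Set X) → Q M) :
    (∀ M : X.Modules, Coh.IsCoh M → CohB1.support M ⊆ (Z : Set X) → J₁ M) ∨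
      (∀ M : X.Modules, Coh.IsCoh M → CohB1.support M ⊆ (Z : Set X) → J₂ M) := by
  by_cases hA : ∃ M : X.Modules, Coh.IsCoh M ∧ J₁ M ∧ (Z : Set X) ⊆ CohB1.support M
  · obtain ⟨M₀, hM₀, hJM₀, hZM₀⟩ := hA
    exact Or.inl fun M hM hs => serre_of_support_subset h1 M₀ M hM₀ hM hJM₀ (hs.trans hZM₀)
  by_cases hB : ∃ M : X.Modules, Coh.IsCoh M ∧ J₂ M ∧ (Z : Set X) ⊆ CohB1.support M
  · obtain ⟨M₀, hM₀, hJM₀, hZM₀⟩ := hB
    exact Or.inr fun M hM hs => serre_of_support_subset h2 M₀ M hM₀ hM hJM₀ (hs.trans hZM₀)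
  exfalso
  obtain ⟨G, hG, hGs⟩ := exists_coh_support_eq Z
  have := hgen (fun M : X.Modules => ¬ ((Z : Set X) ⊆ CohB1.support M))
    (isSerre_not_subset_support _ hZ)
    (fun M hM hJ hs => hA ⟨M, hM, hJ, hs⟩) (fun M hM hJ hs => hB ⟨M, hM, hJ, hs⟩) G hG hGs.le
  exact this hGs.ge

theorem irred_backward [IsNoetherian X] (Z : Closeds X)
    (H : ∀ J₁ J₂ : ObjectProperty X.Modules, IsSerre J₁ → IsSerre J₂ →
      (∀ M : X.Modules, Coh.IsCoh M → J₁ M → CohB1.support M ⊆ (Z : Set X)) →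
      (∀ M : X.Modules, Coh.IsCoh M → J₂ M → CohB1.support M ⊆ (Z : Set X)) →
      (∀ Q : ObjectProperty X.Modules, IsSerre Q →
        (∀ M : X.Modules, Coh.IsCoh M → J₁ M → Q M) → (∀ M : X.Modules, Coh.IsCoh M → J₂ M → Q M) →
        ∀ M : X.Modules, Coh.IsCoh M → CohB1.support M ⊆ (Z : Set X) → Q M) →
      (∀ M : X.Modules, Coh.IsCoh M → CohB1.support M ⊆ (Z : Set X) → J₁ M) ∨
        (∀ M : X.Modules, Coh.IsCoh M → CohB1.support M ⊆ (Z : Set X) → J₂ M)) :
    IsPreirreducible (Z : Set X) := by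
  rw [isPreirreducible_iff_isClosed_union_isClosed]
  intro z₁ z₂ hz₁ hz₂ hcov
  obtain ⟨G, hG, hGs⟩ := exists_coh_support_eq Z
  have hc1 : IsClosed ((Z : Set X) ∩ z₁) := Z.isClosed.inter hz₁
  have hc2 : IsClosed ((Z : Set X) ∩ z₂) := Z.isClosed.inter hz₂
  have hgen : ∀ Q : ObjectProperty X.Modules, IsSerre Q →
      (∀ M : X.Modules, Coh.IsCoh M → CohB1.support M ⊆ (Z : Set X) ∩ z₁ → Q M) →
      (∀ M : X.Modules, Coh.IsCoh M → CohB1.support M ⊆ (Z : Set X) ∩ z₂ → Q M) →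
      ∀ M : X.Modules, Coh.IsCoh M → CohB1.support M ⊆ (Z : Set X) → Q M := by
    intro Q hQ hQ1 hQ2 M hM hs
    have := reducible_step (K' := fun M => Coh.IsCoh M ∧ Q M) hQ.extClosed
      ((Z : Set X) ∩ z₁) ((Z : Set X) ∩ z₂) hc1 hc2
      (fun F hF hs => ⟨hF, hQ1 F hF hs⟩) (fun F hF hs => ⟨hF, hQ2 F hF hs⟩) M hM ?_
    · exact this.2
    · intro x hx
      have hxZ := hs hx
      rcases hcov hxZ with h | h
      · exact Or.inl ⟨hxZ, h⟩
      · exact Or.inr ⟨hxZ, h⟩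
  rcases H (fun M => CohB1.support M ⊆ (Z : Set X) ∩ z₁) (fun M => CohB1.support M ⊆ (Z : Set X) ∩ z₂)
    (isSerre_support_subset _) (isSerre_support_subset _)
    (fun M _ h => h.trans Set.inter_subset_left) (fun M _ h => h.trans Set.inter_subset_left)
    hgen with h | h
  · left
    have := h G hG hGs.le
    rw [hGs] at this
    exact this.trans Set.inter_subset_right
  · right
    have := h G hG hGs.le
    rw [hGs] at this
    exact this.trans Set.inter_subset_right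

end Groth.Agent.Lib.Helper2.CohSerre
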