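import Groth.Agent.Lib.Helper2.CohSerre.Basic

/-! # Serre classes of coherent modules are determined by supports (helper2) -/

set_option autoImplicit false
universe u v
open CategoryTheory CategoryTheory.Limits AlgebraicGeometry TopologicalSpace Opposite
open Groth.Agent.Lib.Helper29.QCoh Groth.Agent.Lib.Helper12.H12Dev

namespace Groth.Agent.Lib.Helper2.CohSerre

theorem exists_surjective_to_simple {R : Type u} [CommRing R] [IsLocalRing R] (M N : Type v)
    [AddCommGroup M] [Module R M] [AddCommGroup N] [Module R N] [Module.Finite R M]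
    [Nontrivial M] [IsSimpleModule R N] : ∃ ψ : M →ₗ[R] N, Function.Surjective ψ := by
  obtain ⟨M', hM', -⟩ := (eq_top_or_exists_le_coatom (⊥ : Submodule R M)).resolve_left bot_ne_top
  haveI : IsSimpleModule R (M ⧸ M') := isSimpleModule_iff_isCoatom.mpr hM'
  obtain ⟨e⟩ := nonempty_linearEquiv_of_isSimpleModule (R := R) (M ⧸ M') N
  exact ⟨e.toLinearMap ∘ₗ M'.mkQ, e.surjective.comp (Submodule.mkQ_surjective M')⟩

variable {X : Scheme.{u}}

theorem mono_kernel_ι_comp {H A B : X.Modules} (v : H ⟶ A) (w : H ⟶ B)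
    [Mono (biprod.lift v w)] : Mono (kernel.ι v ≫ w) := by
  refine Preadditive.mono_of_cancel_zero _ (fun {Q} a ha => ?_)
  have h1 : (a ≫ kernel.ι v) ≫ biprod.lift v w = 0 := by
    apply biprod.hom_ext
    · rw [Category.assoc, biprod.lift_fst, Category.assoc, kernel.condition, comp_zero, zero_comp]
    · rw [Category.assoc, biprod.lift_snd, Category.assoc, ha, zero_comp]
  have h2 : a ≫ kernel.ι v = 0 := by
    rw [← cancel_mono (biprod.lift v w), h1, zero_comp]
  rw [← cancel_mono (kernel.ι v), h2, zero_comp]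

/-- **Main theorem.** A Serre class of coherent modules containing `F` contains every coherent
module whose support lies in the support of `F`. -/
theorem serre_of_support_subset [IsNoetherian X] {P : ObjectProperty X.Modules} (hP : IsSerre P)
    (F E : X.Modules) (hF : Coh.IsCoh F) (hE : Coh.IsCoh E) (hPF : P F)
    (hsupp : CohB1.support E ⊆ CohB1.support F) : P E := by
  let K' : X.Modules → Prop := fun M => Coh.IsCoh M ∧ P M
  have h0 : ∀ M : X.Modules, IsZero M → K' M := fun M hM =>
    ⟨Groth.Agent.Lib.Helper17.CohThick.isCoh_of_isZero X hM, hP.of_isZero hF hPF hM⟩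
  refine (devissage_core (K' := K') h0 hP.extClosed (CohB1.support F) ?_ E hE hsupp).2
  intro Z hZ hirr hZF y hy hsmall T hT hTsupp hTs
  have hyZ : y ∈ Z := hy ▸ subset_closure rfl
  have hyF : y ∈ CohB1.support F := hZF hyZ
  haveI := hF.1
  haveI := hF.2
  haveI : Nontrivial (F.presheaf.stalk y) := (mem_support_iff F y).mp hyF
  haveI : Module.Finite (X.presheaf.stalk y) (F.presheaf.stalk y) :=
    Groth.Agent.Lib.Helper17.ZClosDepth.module_finite_stalk F y
  haveI := hTs
  obtain ⟨ψ, hψ⟩ := exists_surjective_to_simple (R := X.presheaf.stalk y)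
    (F.presheaf.stalk y) (T.presheaf.stalk y)
  obtain ⟨H, v, w, U, hH, hyU, hv, hw, -, hmono⟩ := exists_correspondence hF hT y ψ
  haveI := hmono
  -- kernel of v
  have hKv : Coh.IsCoh (kernel v) := isCoh_kernel v hH hF
  haveI : Mono (kernel.ι v ≫ w) := mono_kernel_ι_comp v w
  have hKvK : K' (kernel v) := by
    refine hsmall _ hKv ((support_subset_of_mono (kernel.ι v ≫ w)).trans hTsupp) ?_
    exact notMem_support_kernel v y (hv y hyU).1
  -- image of v
  have hIv : Coh.IsCoh (Abelian.image v) := isCoh_image v hH hF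
  have hPIv : P (Abelian.image v) := hP.of_mono (Abelian.image.ι v) hIv hF hPF
  have hPH : P H := (hP (sesKerIm v) (sesKerIm_shortExact v) hKv hH hIv).2 ⟨hKvK.2, hPIv⟩
  -- image of w
  have hIw : Coh.IsCoh (Abelian.image w) := isCoh_image w hH hT
  have hPIw : P (Abelian.image w) := hP.of_epi (Abelian.factorThruImage w) hH hIw hPH
  -- cokernel of w
  have hCw : Coh.IsCoh (cokernel w) := isCoh_cokernel w hH hT
  have hwsurj : Function.Surjective (stalkMap w y) := by
    intro t
    obtain ⟨s, rfl⟩ := hψ t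
    obtain ⟨h, rfl⟩ := (hv y hyU).2 s
    exact ⟨h, hw h⟩
  have hCwK : K' (cokernel w) := by
    refine hsmall _ hCw ((support_subset_of_epi (cokernel.π w)).trans hTsupp) ?_
    exact notMem_support_cokernel w y hwsurj
  exact ⟨hT, (hP (sesImCoker w) (sesImCoker_shortExact w) hIw hT hCw).2 ⟨hPIw, hCwK.2⟩⟩

end Groth.Agent.Lib.Helper2.CohSerre
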